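import Mathlib
import Cfsg.Prelude.Def_GeometricClasses
import Cfsg.Agent.H954.FieldSub

/-!
# The normalizer of an irreducible element of prime order in `SL_n(q)` has nonscalar elements with fixed vectors
(helper899; S3691, PSL-6b)
-/

set_option autoImplicit false
set_option linter.unusedSectionVars false
set_option linter.unusedVariables false

namespace Cfsg.Agent.H899.Rl

open Polynomial Module Cfsg Cfsg.Geo
open scoped MatrixGroups

section poly

variable {F V : Type*} [Field F] [AddCommGroup V] [Module F V]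

/-- An irreducible factor with non-trivial kernel. -/
theorem exists_factor {f : Module.End F V} (R : F[X]) (hR : R ≠ 0) {u : V} (hu : u ≠ 0)
    (h : aeval f R u = 0) :
    ∃ P, Irreducible P ∧ P ∣ R ∧ ∃ w, w ≠ 0 ∧ aeval f P w = 0 := by
  induction R using WfDvdMonoid.induction_on_irreducible generalizing u with
  | zero => exact absurd rfl hR
  | unit R hRu =>
    exfalso
    apply hu
    obtain ⟨S, hS⟩ := hRu.exists_left_inv
    have := congrArg (fun r => aeval f r u) hS
    simp only [map_mul, Module.End.mul_apply, h, map_zero, map_one, Module.End.one_apply] at this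
    exact this.symm
  | mul R P hR0 hP ih =>
    by_cases h1 : aeval f R u = 0
    · obtain ⟨P', h2, h3, h4⟩ := ih hR0 hu h1
      exact ⟨P', h2, h3.mul_left _, h4⟩
    · refine ⟨P, hP, dvd_mul_right _ _, _, h1, ?_⟩
      rw [← Module.End.mul_apply, ← map_mul]
      exact h

/-- A nontrivial operator of prime order has an irreducible cyclotomic factor. -/
theorem exists_cyc_factor {f : Module.End F V} {p : ℕ} (hp : p.Prime) (hf : f ^ p = 1)
    (h1 : f ≠ 1) : ∃ P, Irreducible P ∧ P ∣ cyclotomic p F ∧ ∃ w, w ≠ 0 ∧ aeval f P w = 0 := by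
  have : Fact p.Prime := ⟨hp⟩
  obtain ⟨v, hv⟩ : ∃ v, f v ≠ v := by
    by_contra hcon
    push Not at hcon
    exact h1 (LinearMap.ext hcon)
  refine exists_factor (cyclotomic p F) (cyclotomic_ne_zero p F) (sub_ne_zero.2 hv) ?_
  have h2 : aeval f (cyclotomic p F * (X - 1)) = 0 := by
    rw [cyclotomic_prime_mul_X_sub_one, map_sub, map_pow, aeval_X, map_one, hf, sub_self]
  have h3 : f v - v = aeval f (X - 1 : F[X]) v := by
    rw [map_sub, aeval_X, map_one]
    rfl
  rw [h3, ← Module.End.mul_apply, ← map_mul, h2]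
  rfl

theorem natDegree_cyc [Fintype F] {p : ℕ} (hp : p.Prime) (hpF : (p : F) ≠ 0)
    {P : F[X]} (hP : Irreducible P) (hd : P ∣ cyclotomic p F) :
    P.natDegree = orderOf ((Fintype.card F : ℕ) : ZMod p) := by
  obtain ⟨r, hr⟩ := CharP.exists F
  obtain ⟨k, hrp, hk⟩ := FiniteField.card F r
  have : Fact r.Prime := ⟨hrp⟩
  have hcop : r.Coprime p := by
    rw [Nat.coprime_primes hrp hp]
    rintro rfl
    exact hpF (CharP.cast_eq_zero F r)
  rw [Polynomial.natDegree_of_dvd_cyclotomic_of_irreducible hk hcop hd hP, ← orderOf_units,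
    ZMod.coe_unitOfCoprime, ← hk]

/-- the minimal polynomial -/
theorem minpoly_irr [Fintype F] [FiniteDimensional F V] {Y : Module.End F V} {r : ℕ} (hr : r.Prime)
    (hYr : Y ^ r = 1) (hY1 : Y ≠ 1) (hrF : (r : F) ≠ 0)
    (hord : orderOf ((Fintype.card F : ℕ) : ZMod r) = finrank F V) :
    Irreducible (minpoly F Y) ∧ (minpoly F Y).natDegree = finrank F V := by
  obtain ⟨P, hP, hd, w, hw, hPw⟩ := exists_cyc_factor hr hYr hY1
  have hdeg : P.natDegree = finrank F V := by rw [natDegree_cyc hr hrF hP hd, hord]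
  have hint : IsIntegral F Y := Algebra.IsIntegral.isIntegral _
  have h1 : P ∣ minpoly F Y := by
    by_contra hcon
    obtain ⟨A, B, hAB⟩ := (hP.coprime_iff_not_dvd (n := minpoly F Y)).2 hcon
    apply hw
    have := congrArg (fun r => aeval Y r w) hAB
    simp only [map_add, LinearMap.add_apply, map_one, Module.End.one_apply, map_mul,
      Module.End.mul_apply, minpoly.aeval, hPw, map_zero, add_zero, LinearMap.zero_apply] at this
    exact this.symm
  have h2 : (minpoly F Y).natDegree ≤ finrank F V := by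
    have h4 : minpoly F Y ∣ Y.charpoly := LinearMap.minpoly_dvd_charpoly Y
    rw [← LinearMap.charpoly_natDegree Y]
    exact Polynomial.natDegree_le_of_dvd h4 (LinearMap.charpoly_monic Y).ne_zero
  have hm0 := minpoly.ne_zero hint
  have h3 : Associated P (minpoly F Y) :=
    Polynomial.associated_of_dvd_of_natDegree_le h1 hm0 (by rw [hdeg]; exact h2)
  refine ⟨h3.irreducible hP, le_antisymm h2 ?_⟩
  rw [← hdeg]
  exact Polynomial.natDegree_le_of_dvd h1 hm0

/-- the determinant of the Frobenius map -/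
theorem det_frob_sq {K : Type*} [Field K] [Fintype F] [Algebra F K] [Finite K] [FiniteDimensional F K] :
    LinearMap.det ((FiniteField.frobeniusAlgHom F K).toLinearMap) ^ 2 = 1 := by
  set T := (FiniteField.frobeniusAlgHom F K).toLinearMap with hT
  have h1 : minpoly F T = X ^ finrank F K - 1 := FiniteField.minpoly_frobeniusAlgHom F K
  have h2 : minpoly F T = T.charpoly := by
    refine (Polynomial.eq_of_monic_of_dvd_of_natDegree_le (minpoly.monic (Algebra.IsIntegral.isIntegral _))
      (LinearMap.charpoly_monic T) (LinearMap.minpoly_dvd_charpoly T) ?_).symm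
    rw [LinearMap.charpoly_natDegree, h1]
    have h3 := (natDegree_X_pow_sub_C (R := F) (n := finrank F K) (r := 1)).symm.le
    rwa [C_1] at h3
  rw [LinearMap.det_eq_sign_charpoly_coeff, ← h2, h1, coeff_sub, coeff_X_pow, coeff_one_zero]
  rw [if_neg (Module.finrank_pos (R := F) (M := K)).ne]
  rw [mul_pow, ← pow_mul, mul_comm (finrank F K) 2, pow_mul]
  simp

theorem exists_lin [Fintype F] [FiniteDimensional F V] {Y : Module.End F V} {r : ℕ} (hr : r.Prime)
    (hYr : Y ^ r = 1) (hY1 : Y ≠ 1) (hrF : (r : F) ≠ 0) (hn : 3 ≤ finrank F V)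
    (hord : orderOf ((Fintype.card F : ℕ) : ZMod r) = finrank F V) :
    ∃ x : V ≃ₗ[F] V, LinearMap.det (x : V →ₗ[F] V) = 1 ∧ (∀ v, x (Y v) = (Y ^ Fintype.card F ^ 2) (x v)) ∧
      (∃ w : V, w ≠ 0 ∧ x w = w) ∧ ¬ ∃ c : F, ∀ v, x v = c • v := by
  obtain ⟨hirr, hdeg⟩ := minpoly_irr hr hYr hY1 hrF hord
  have hf : Fact (Irreducible (minpoly F Y)) := ⟨hirr⟩
  obtain ⟨e0⟩ := Cfsg.Agent.H954.FieldSub.exists_equiv_quot Y hdeg
  let K := AdjoinRoot (minpoly F Y)
  have hfd : FiniteDimensional F K := (AdjoinRoot.powerBasis hirr.ne_zero).finite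
  have hfin : Finite K := Module.finite_of_finite F
  let e : K ≃ₗ[F] V := ((e0.restrictScalars F).trans (Module.AEval'.of Y).symm : (F[X] ⧸ Ideal.span {minpoly F Y}) ≃ₗ[F] V)
  have key : ∀ a : F[X] ⧸ Ideal.span {minpoly F Y}, e0 (Ideal.Quotient.mk (Ideal.span {minpoly F Y}) X * a) = (X : F[X]) • e0 a := by
    intro a
    rw [← map_smul]
    congr 1
  have heX : ∀ a : K, e (AdjoinRoot.root (minpoly F Y) * a) = Y (e a) := by
    intro a
    have h1 : e (AdjoinRoot.root (minpoly F Y) * a) = (Module.AEval'.of Y).symm ((X : F[X]) • e0 a) :=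
      congrArg (Module.AEval'.of Y).symm (key a)
    have h2 : e a = (Module.AEval'.of Y).symm (e0 a) := rfl
    rw [h1, h2]
    obtain ⟨v, hv⟩ := (Module.AEval'.of Y).surjective (e0 a)
    rw [← hv, Module.AEval'.X_smul_of, LinearEquiv.symm_apply_apply, LinearEquiv.symm_apply_apply]
  let φ : K ≃ₐ[F] K := FiniteField.frobeniusAlgEquivOfAlgebraic F K
  have hφ : ∀ a : K, φ a = a ^ Fintype.card F := fun a => rfl
  let ψ : K ≃ₗ[F] K := (φ.toLinearEquiv.trans φ.toLinearEquiv)
  have hψ : ∀ a : K, ψ a = (a ^ Fintype.card F) ^ Fintype.card F := fun a => rfl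
  let x : V ≃ₗ[F] V := (e.symm.trans ψ).trans e
  have hx : ∀ a : K, x (e a) = e (ψ a) := by
    intro a
    change e (ψ (e.symm (e a))) = _
    rw [LinearEquiv.symm_apply_apply]
  have hxY : ∀ v, x (Y v) = (Y ^ Fintype.card F ^ 2) (x v) := by
    intro v
    obtain ⟨a, rfl⟩ := e.surjective v
    have h1 : ∀ (k : ℕ) (b : K), e (AdjoinRoot.root (minpoly F Y) ^ k * b) = (Y ^ k) (e b) := by
      intro k
      induction k with
      | zero => intro b; simp
      | succ k ih =>
        intro b
        rw [pow_succ, mul_assoc, ih, heX, pow_succ, Module.End.mul_apply]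
    rw [← heX, hx, hx, hψ, hψ, mul_pow, mul_pow, ← pow_mul, ← pow_two, h1]
  refine ⟨x, ?_, hxY, ⟨e 1, ?_, ?_⟩, ?_⟩
  · have h1 : (x : V →ₗ[F] V) = (e : K →ₗ[F] V) ∘ₗ (ψ : K →ₗ[F] K) ∘ₗ (e.symm : V →ₗ[F] K) := rfl
    have h2 : (ψ : K →ₗ[F] K) = (FiniteField.frobeniusAlgHom F K).toLinearMap * (FiniteField.frobeniusAlgHom F K).toLinearMap := rfl
    rw [h1, LinearMap.det_conj, h2, map_mul, ← pow_two, det_frob_sq]
  · intro h
    exact one_ne_zero ((LinearEquiv.map_eq_zero_iff e).1 h)
  · rw [hx, hψ, one_pow, one_pow]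
  · rintro ⟨c, hc⟩
    have h1 := hc (e 1)
    rw [hx, hψ, one_pow, one_pow] at h1
    have he1 : e 1 ≠ 0 := fun h => one_ne_zero ((LinearEquiv.map_eq_zero_iff e).1 h)
    have hc1 : c = 1 := by
      have h2 : (1 - c) • e (1 : K) = 0 := by rw [sub_smul, one_smul, ← h1, sub_self]
      rcases smul_eq_zero.1 h2 with h3 | h3
      · exact (sub_eq_zero.1 h3).symm
      · exact absurd h3 he1
    have hx1 : ∀ v, x v = v := fun v => by rw [hc, hc1, one_smul]
    have hYq : Y = Y ^ Fintype.card F ^ 2 := by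
      refine LinearMap.ext fun v => ?_
      have := hxY v
      rwa [hx1, hx1] at this
    obtain ⟨u, hu⟩ := IsUnit.of_pow_eq_one hYr hr.ne_zero
    have := Fact.mk hr
    have huo : orderOf u = r := by
      rw [← orderOf_units, hu]
      exact orderOf_eq_prime hYr hY1
    have hu1 : u ^ 1 = u ^ Fintype.card F ^ 2 := by
      apply Units.ext
      rw [pow_one, Units.val_pow_eq_pow_val, hu]
      exact hYq
    rw [pow_eq_pow_iff_modEq, huo] at hu1
    have h4 := (ZMod.natCast_eq_natCast_iff _ _ _).2 hu1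
    push_cast at h4
    have h5 := orderOf_dvd_of_pow_eq_one h4.symm
    rw [hord] at h5
    have := Nat.le_of_dvd two_pos h5
    omega

end poly

/-- **the normalizer of an irreducible element of prime order contains nonscalar elements of determinant one
with fixed vectors** -/
theorem exists_fix {F : Type*} [Field F] [Fintype F] {n p f r : ℕ} (hn : 3 ≤ n) (hp : p.Prime)
    (hF : Fintype.card F = p ^ f) (hr : r.Prime) (hord : orderOf ((p : ℕ) : ZMod r) = f * n) {y : GL (Fin n) F}
    (hy : orderOf y = r) :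
    ∃ x : GL (Fin n) F, x ∈ specialLinear (Fin n) F ∧ (∀ g ∈ Subgroup.zpowers y, x * g * x⁻¹ ∈ Subgroup.zpowers y) ∧
      (∀ c : F, (x : Matrix (Fin n) (Fin n) F) ≠ Matrix.scalar (Fin n) c) ∧
      ∃ w : Fin n → F, w ≠ 0 ∧ (x : Matrix (Fin n) (Fin n) F).mulVec w = w := by
  have := Fact.mk hr
  have hf : f ≠ 0 := by
    rintro rfl
    rw [pow_zero] at hF
    exact absurd (Fintype.one_lt_card (α := F)) (by omega)
  have hrF : (r : F) ≠ 0 := by
    intro h0
    have hch : CharP F p := by
      have := Fact.mk hp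
      exact charP_of_card_eq_prime_pow hF
    rw [CharP.cast_eq_zero_iff F p] at h0
    have h1 : p = r := (Nat.prime_dvd_prime_iff_eq hp hr).1 h0
    subst h1
    rw [ZMod.natCast_self, orderOf_zero] at hord
    have : f * n ≠ 0 := Nat.mul_ne_zero hf (by omega)
    exact this hord.symm
  have hordq : orderOf ((Fintype.card F : ℕ) : ZMod r) = n := by
    rw [hF, Nat.cast_pow, orderOf_pow_of_dvd hf (by rw [hord]; exact dvd_mul_right _ _), hord,
      Nat.mul_div_cancel_left _ (Nat.pos_of_ne_zero hf)]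
  set Y : Module.End F (Fin n → F) := Matrix.toLin' (y : Matrix (Fin n) (Fin n) F) with hY
  have hYk : ∀ k : ℕ, Y ^ k = Matrix.toLin' ((y ^ k : GL (Fin n) F) : Matrix (Fin n) (Fin n) F) := by
    intro k
    rw [Units.val_pow_eq_pow_val, hY, Matrix.toLin'_pow]
  obtain ⟨x, hdet, hxY, ⟨w, hw, hxw⟩, hsc⟩ := exists_lin (F := F) (V := Fin n → F) (Y := Y) hr
    (by rw [hYk, ← hy, pow_orderOf_eq_one, Units.val_one, Matrix.toLin'_one]; rfl)
    (by
      intro h1
      have h2 : y = 1 := by
        apply Units.ext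
        apply Matrix.toLin'.injective
        rw [← hY, h1, Units.val_one, Matrix.toLin'_one]; rfl
      rw [h2, orderOf_one] at hy
      exact hr.one_lt.ne hy)
    hrF (by rw [Module.finrank_fin_fun]; exact hn) (by rw [Module.finrank_fin_fun]; exact hordq)
  have hM : (LinearMap.toMatrix' (x : (Fin n → F) →ₗ[F] (Fin n → F))).det = 1 := by
    rw [LinearMap.det_toMatrix']; exact hdet
  let x' : GL (Fin n) F := Matrix.GeneralLinearGroup.mkOfDetNeZero (LinearMap.toMatrix' (x : (Fin n → F) →ₗ[F] (Fin n → F)))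
    (by rw [hM]; exact one_ne_zero)
  have hx' : (x' : Matrix (Fin n) (Fin n) F) = LinearMap.toMatrix' (x : (Fin n → F) →ₗ[F] (Fin n → F)) := rfl
  have hxv : ∀ v, (x' : Matrix (Fin n) (Fin n) F).mulVec v = x v := by
    intro v
    rw [hx', LinearMap.toMatrix'_mulVec]; rfl
  have hxy : x' * y = y ^ Fintype.card F ^ 2 * x' := by
    apply Units.ext
    apply Matrix.toLin'.injective
    refine LinearMap.ext fun v => ?_
    rw [Units.val_mul, Units.val_mul, Matrix.toLin'_mul, Matrix.toLin'_mul, LinearMap.comp_apply, LinearMap.comp_apply,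
      ← hYk, Matrix.toLin'_apply, Matrix.toLin'_apply (x' : Matrix (Fin n) (Fin n) F), hxv, hxv]
    exact hxY v
  refine ⟨x', ?_, ?_, ?_, ⟨w, hw, by rw [hxv, hxw]⟩⟩
  · rw [specialLinear, MonoidHom.mem_ker]
    apply Units.ext
    exact hM
  · intro g hg
    obtain ⟨k, rfl⟩ := Subgroup.mem_zpowers_iff.1 hg
    have h1 : x' * y * x'⁻¹ = y ^ Fintype.card F ^ 2 := by rw [hxy, mul_inv_cancel_right]
    rw [← conj_zpow, h1]
    exact Subgroup.zpow_mem _ (Subgroup.pow_mem _ (Subgroup.mem_zpowers y) _) k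
  · intro c hc
    apply hsc
    refine ⟨c, fun v => ?_⟩
    rw [← hxv, hc, Matrix.scalar_apply, ← Matrix.smul_one_eq_diagonal, Matrix.smul_mulVec, Matrix.one_mulVec]

end Cfsg.Agent.H899.Rl
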